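import Groth.Agent.RhoShLib.Hartogs
import Groth.Agent.RefRank.Stalk
import Groth.Agent.Flatmor4.FreeFibre
import Groth.Agent.QCohMod.Pullback
import Groth.Agent.Ega4Algebra2.SmoothCodim

/-! Hartogs extension for locally free sheaves on smooth families. -/

set_option autoImplicit false
set_option linter.style.haveILetI false

universe u

open CategoryTheory AlgebraicGeometry TopologicalSpace Opposite IsLocalRing
open scoped TensorProduct

namespace Groth.SmoothHartogs

variable {X : Scheme.{u}}

open Groth.RhoShLib in
theorem goodRes_of_iso {U : X.Opens} {G G' : X.Modules} (e : G ≅ G') (h : GoodRes U G) : GoodRes U G' := by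
  intro W
  have hb : ∀ V : X.Opens, Function.Bijective (e.hom.app V) := fun V =>
    ConcreteCategory.bijective_of_isIso (e.hom.app V)
  refine (Function.Bijective.of_comp_iff _ (hb W)).1 ?_
  have : (QCohMod.res G' (inf_le_left : W ⊓ U ≤ W)) ∘ (e.hom.app W) =
      (e.hom.app (W ⊓ U)) ∘ (QCohMod.res G (inf_le_left : W ⊓ U ≤ W)) :=
    funext fun s => QCohMod.res_app e.hom _ s
  rw [this]
  exact (hb _).comp (h W)

theorem isReflexive_of_finLocFree [IsLocallyNoetherian X] {F : X.Modules}
    (hFc : Coh.IsCoh F) (hfree : ∀ x, Module.Free (X.presheaf.stalk x) (F.presheaf.stalk x)) :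
    RefHull.IsReflexive F := by
  refine (RefRank.isReflexive_iff_forall hFc).2 fun x => ?_
  haveI := hfree x
  haveI := RefRank.finite_stalkModule hFc x
  change Module.IsReflexive _ _
  infer_instance

/-- Finite locally free modules extend across big closed subsets of smooth families. -/
theorem goodRes_of_finLocFree {S : Scheme.{u}} (f : X ⟶ S) [Smooth f] [IsLocallyNoetherian X]
    (U : X.Opens) (hU : RhoShLib.IsBig f U) {F : X.Modules} (hFc : Coh.IsCoh F)
    (hfree : ∀ x, Module.Free (X.presheaf.stalk x) (F.presheaf.stalk x)) : RhoShLib.GoodRes U F := by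
  haveI : IsIso (RefHull.bidualMap F) := isReflexive_of_finLocFree hFc hfree
  exact goodRes_of_iso (asIso (RefHull.bidualMap F)).symm
    (RhoShLib.goodRes_homSh _ (RhoShLib.goodRes_structure f U hU))

/-- A regular local ring of dimension at most one is a principal ideal domain. -/
theorem isPrincipalIdealRing_of_regular {R : Type u} [CommRing R] [IsRegularLocalRing R]
    (hd : ringKrullDim R ≤ 1) : IsPrincipalIdealRing R := by
  haveI := Groth.Ega4Algebra1.isDomain_of_isRegularLocalRing R
  refine ((tfae_of_isNoetherianRing_of_isLocalRing_of_isDomain R).out 4 0).1 ?_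
  have h : Submodule.spanFinrank (maximalIdeal R) ≤ 1 := by
    have := IsRegularLocalRing.spanFinrank_maximalIdeal (R := R)
    rw [← this] at hd
    exact_mod_cast hd
  rcases Nat.le_one_iff_eq_zero_or_eq_one.1 h with h0 | h1
  · rw [(Submodule.spanFinrank_eq_zero_iff_eq_bot (IsNoetherian.noetherian _)).1 h0]
    exact bot_isPrincipal
  · exact ((Submodule.spanFinrank_eq_one_iff _).1 h1).1

/-- A flat module with torsion-free restriction to a regular fibre is free in fibre codimension one. -/
theorem free_stalk_of_dim_le_one {S : Scheme.{u}} (f : X ⟶ S) (F : X.Modules) [F.IsQuasicoherent]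
    (hF : CohB1.IsFP F) (hfl : FlatMod.IsFlatOver f F) (s : S) (w : f.fiber s)
    [IsRegularLocalRing ((f.fiber s).presheaf.stalk w)]
    (htf : Module.IsTorsionFree ((f.fiber s).presheaf.stalk w)
      (((Scheme.Modules.pullback (f.fiberι s)).obj F).presheaf.stalk w))
    (hd : ringKrullDim ((f.fiber s).presheaf.stalk w) ≤ 1) :
    Module.Free (X.presheaf.stalk (f.fiberι s w)) (F.presheaf.stalk (f.fiberι s w)) := by
  let B := X.presheaf.stalk (f.fiberι s w)
  let K := (f.fiber s).presheaf.stalk w
  let M := F.presheaf.stalk (f.fiberι s w)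
  let A := S.presheaf.stalk (f (f.fiberι s w))
  haveI : IsPrincipalIdealRing K := isPrincipalIdealRing_of_regular hd
  haveI : IsDomain K := Groth.Ega4Algebra1.isDomain_of_isRegularLocalRing K
  haveI := Groth.Flatmor4.finitePresentation_stalk F hF (f.fiberι s w)
  letI : Algebra B K := Groth.QCohMod.stalkAlg (f.fiberι s) w
  let eM := Groth.QCohMod.pullStalkEquiv (f.fiberι s) F w
  haveI : Module.Finite K (K ⊗[B] M) := inferInstance
  haveI : Module.IsTorsionFree K (K ⊗[B] M) := eM.injective.moduleIsTorsionFree eM eM.map_smul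
  haveI hK : Module.Free K (K ⊗[B] M) := inferInstance
  letI : Algebra A B := (f.stalkMap (f.fiberι s w)).hom.toAlgebra
  letI : Module A M := FlatMod.moduleStalkOver f F (f.fiberι s w)
  haveI : IsScalarTower A B M := IsScalarTower.of_algebraMap_smul fun _ _ => rfl
  haveI : Module.Flat A M := hfl (f.fiberι s w)
  haveI : IsLocalHom (algebraMap A B) := inferInstanceAs (IsLocalHom (f.stalkMap (f.fiberι s w)).hom)
  obtain ⟨hπ, hker⟩ := Groth.Agent.S9501.result f s w
  let I : Ideal B := (maximalIdeal A).map (algebraMap A B)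
  let π : B →+* K := ((f.fiberι s).stalkMap w).hom
  let e : B ⧸ I ≃+* K :=
    (Ideal.quotEquivOfEq hker.symm).trans (RingHom.quotientKerEquivOfSurjective (f := π) hπ)
  have he : ∀ r : B, e (Ideal.Quotient.mk I r) = π r := fun r => rfl
  letI : Algebra K (B ⧸ I) := e.symm.toRingHom.toAlgebra
  haveI : IsScalarTower B K (B ⧸ I) := IsScalarTower.of_algebraMap_eq fun r => by
    show Ideal.Quotient.mk I r = e.symm (π r)
    rw [← he, RingEquiv.symm_apply_apply]
  haveI : Module.Free (B ⧸ I) ((B ⧸ I) ⊗[B] M) := Module.Free.of_equiv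
    (TensorProduct.AlgebraTensorModule.cancelBaseChange B K (B ⧸ I) (B ⧸ I) M)
  exact Groth.Flatmor4.free_of_flat_of_free_fibre (A := A) inferInstance

end Groth.SmoothHartogs
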